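import Mathlib
import Cfsg.Agent.Lib.Frob.Complement

/-!
Fixed point free actions of involutions and of the quaternion group.
-/

set_option autoImplicit false

namespace Cfsg.Agent.Frob

open Subgroup

theorem exists_dvd_sq_add_sq_add_one {m : ℕ} (hm : Odd m) : ∃ a b : ℤ, (m : ℤ) ∣ a ^ 2 + b ^ 2 + 1 := by
  induction m using induction_on_primes with
  | zero => exact absurd hm (by decide)
  | one => exact ⟨0, 0, by simp⟩
  | prime_mul p m hp ih =>
    rw [Nat.odd_mul] at hm
    obtain ⟨a, b, t, ht⟩ := ih hm.2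
    have hp' : Prime (p : ℤ) := Nat.prime_iff_prime_int.1 hp
    have := Fact.mk hp
    by_cases hpm : p ∣ m
    · obtain ⟨m', rfl⟩ := hpm
      have key : ∀ a b : ℤ, a ^ 2 + b ^ 2 + 1 = ((p * m' : ℕ) : ℤ) * t → ¬ (p : ℤ) ∣ a →
          ∃ a b : ℤ, ((p * (p * m') : ℕ) : ℤ) ∣ a ^ 2 + b ^ 2 + 1 := fun a b ht ha => by
        have h2 : ¬ (p : ℤ) ∣ 2 * a := fun h => by
          rcases hp'.dvd_or_dvd h with h | h
          · have : p ∣ 2 := by exact_mod_cast h
            rw [(Nat.prime_dvd_prime_iff_eq hp Nat.prime_two).1 this] at hm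
            exact absurd hm.1 (by decide)
          · exact ha h
        obtain ⟨u, v, huv⟩ := (hp'.irreducible.coprime_iff_not_dvd.2 h2)
        refine ⟨a - p * m' * (v * t), b, u * t + m' * (v * t) ^ 2, ?_⟩
        push_cast at ht ⊢
        linear_combination ht - p * m' * t * huv
      by_cases ha : (p : ℤ) ∣ a
      · refine key b a (by rw [← ht]; ring) fun hb => hp'.not_dvd_one ?_
        have h1 : (p : ℤ) ∣ a ^ 2 + b ^ 2 + 1 := by
          rw [ht]; push_cast; exact (dvd_mul_right _ _).mul_right _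
        exact (dvd_add_right ((dvd_pow ha two_ne_zero).add (dvd_pow hb two_ne_zero))).1 h1
      · exact key a b ht ha
    · obtain ⟨c, d, hcd⟩ := ZMod.sq_add_sq p (-1)
      obtain ⟨c, rfl⟩ := ZMod.intCast_surjective c
      obtain ⟨d, rfl⟩ := ZMod.intCast_surjective d
      obtain ⟨s, hs⟩ : (p : ℤ) ∣ c ^ 2 + d ^ 2 + 1 := by
        rw [← ZMod.intCast_zmod_eq_zero_iff_dvd]; push_cast; rw [hcd, neg_add_cancel]
      have hcop : IsCoprime (p : ℤ) m := Nat.isCoprime_iff_coprime.2 (hp.coprime_iff_not_dvd.2 hpm)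
      obtain ⟨u, v, huv⟩ := hcop
      refine ⟨u * p * a + v * m * c, u * p * b + v * m * d, ?_⟩
      push_cast
      refine IsCoprime.mul_dvd ⟨u, v, huv⟩ ?_ ?_
      · refine ⟨u * (u * p * (a ^ 2 + b ^ 2) + 2 * v * m * (a * c + b * d)) + (v * m) ^ 2 * s +
          u * (1 + v * m), ?_⟩
        linear_combination (v * m) ^ 2 * hs - (1 + v * m) * huv
      · refine ⟨v * (v * m * (c ^ 2 + d ^ 2) + 2 * u * p * (a * c + b * d)) + (u * p) ^ 2 * t +
          v * (1 + u * p), ?_⟩
        linear_combination (u * p) ^ 2 * ht - (1 + u * p) * huv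

theorem isSquare_card_of_quat {M : Type*} [AddCommGroup M] [Finite M] (hM : Odd (Nat.card M))
    (I J : M →+ M) (hI : ∀ v, I (I v) = -v) (hJ : ∀ v, J (J v) = -v)
    (hIJ : ∀ v, I (J v) = - J (I v)) : IsSquare (Nat.card M) := by
  obtain ⟨a, b, t, ht⟩ := exists_dvd_sq_add_sq_add_one hM
  have h0 : ∀ v : M, (a ^ 2 + b ^ 2 + 1) • v = 0 := fun v => by
    rw [ht, mul_comm, mul_smul, natCast_zsmul, card_nsmul_eq_zero', smul_zero]
  let w : M →+ M := a • I + b • J
  have hw : ∀ v, w v = a • I v + b • J v := fun v => rfl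
  have hww : ∀ v, w (w v) = v := fun v => by
    simp only [hw, map_add, map_zsmul, hI, hJ, hIJ]
    linear_combination (norm := module) - h0 v
  have hwk : ∀ v, w (I (J v)) = - I (J (w v)) := fun v => by
    simp only [hw, map_add, map_zsmul, hI, hJ, hIJ, map_neg]
    module
  have hkk : ∀ v, I (J (I (J v))) = -v := fun v => by
    simp only [hI, hJ, hIJ, map_neg, neg_neg]
  let d : M →+ M := w - AddMonoidHom.id M
  have hd : ∀ v, d v = w v - v := fun v => rfl
  have e : d.ker ≃ d.range := by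
    refine Equiv.ofBijective (fun v => ⟨I (J v), ?_⟩) ⟨fun x y h => ?_, ?_⟩
    · obtain ⟨c, hc⟩ := hM
      have h1 : w v = v := sub_eq_zero.1 v.2
      have h2 := card_nsmul_eq_zero' (x := I (J v))
      refine ⟨c • I (J v), ?_⟩
      rw [map_nsmul, hd, hwk, h1]
      rw [hc] at h2
      linear_combination (norm := module) - h2
    · have h1 : I (J x) = I (J y) := congrArg Subtype.val h
      have h2 := hkk x
      rw [h1, hkk] at h2
      exact Subtype.ext (neg_injective h2).symm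
    · rintro ⟨_, y, rfl⟩
      refine ⟨⟨- I (J (d y)), ?_⟩, Subtype.ext ?_⟩
      · rw [AddMonoidHom.mem_ker, hd, map_neg, hwk, hd, map_sub w, hww]
        simp only [map_sub]
        abel
      · simp only [map_neg, hkk, neg_neg]
  refine ⟨Nat.card d.ker, ?_⟩
  rw [← d.ker.card_mul_index, AddSubgroup.index_ker, ← Nat.card_congr e]

variable {X : Type*} [Group X] {K H : Subgroup X}

/-- An involution acting fixed point freely inverts. -/
theorem conj_eq_inv_of_fpf [Finite K] {z : X} (hz : z * z = 1) (hn : z ∈ normalizer (K : Set X))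
    (hf : ∀ k ∈ K, z * k = k * z → k = 1) {k : X} (hk : k ∈ K) : z * k * z⁻¹ = k⁻¹ := by
  obtain ⟨y, -, hy⟩ := exists_conj_of_fpf hn hf hk
  have h1 : (k * z) * (k * z) = 1 := by
    rw [← hy]
    calc y * z * y⁻¹ * (y * z * y⁻¹) = y * (z * z) * y⁻¹ := by group
      _ = 1 := by rw [hz]; group
  rw [inv_eq_of_mul_eq_one_right hz, eq_inv_iff_mul_eq_one]
  calc z * k * z * k = k⁻¹ * (k * z * (k * z)) * k := by group
    _ = 1 := by rw [h1]; group

theorem isMulCommutative_of_conj_eq_inv {z : X} (h : ∀ k ∈ K, z * k * z⁻¹ = k⁻¹) :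
    IsMulCommutative K := ⟨⟨fun a b => Subtype.ext (by
  have h1 := h _ (K.mul_mem a.2 b.2)
  have h2 : z * (a * b) * z⁻¹ = (z * a * z⁻¹) * (z * b * z⁻¹) := by group
  rw [h2, h _ a.2, h _ b.2, ← mul_inv_rev] at h1
  exact (inv_injective h1).symm)⟩⟩

theorem IsFrobPair.conj_eq_inv [Finite K] (hF : IsFrobPair K H) {z : X} (hz : z ∈ H)
    (ho : orderOf z = 2) {k : X} (hk : k ∈ K) : z * k * z⁻¹ = k⁻¹ :=
  conj_eq_inv_of_fpf (by rw [← sq, ← ho, pow_orderOf_eq_one]) (hF.le_normalizer hz)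
    (hF.fpf z hz (by rintro rfl; simp at ho)) hk

/-- If the complement has even order, the kernel is abelian. -/
theorem IsFrobPair.isMulCommutative_of_even [Finite K] [Finite H] (hF : IsFrobPair K H)
    (h : 2 ∣ Nat.card H) : IsMulCommutative K := by
  obtain ⟨z, hz⟩ := exists_prime_orderOf_dvd_card' 2 h
  exact isMulCommutative_of_conj_eq_inv fun k hk =>
    hF.conj_eq_inv z.2 (by rw [orderOf_coe, hz]) hk

theorem IsFrobPair.odd_and_isSquare [Finite K] (hF : IsFrobPair K H) {i j : X} (hi : i ∈ H)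
    (hj : j ∈ H) (ho : orderOf (i * i) = 2) (hij : j * j = i * i) (hc : j * i * j⁻¹ = i⁻¹) :
    Odd (Nat.card K) ∧ IsSquare (Nat.card K) := by
  have hz := H.mul_mem hi hi
  have hinv := fun k hk => hF.conj_eq_inv hz ho (k := k) hk
  have hodd : Odd (Nat.card K) := by
    have h1 : 2 ∣ Nat.card H := ho ▸ H.orderOf_dvd_natCard hz
    exact Nat.coprime_two_right.1 (hF.coprime.coprime_dvd_right h1)
  refine ⟨hodd, ?_⟩
  have := isMulCommutative_of_conj_eq_inv hinv
  let _ : CommGroup K := IsMulCommutative.instCommGroup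
  let I : K →* K := (K.normalizerMonoidHom ⟨i, hF.le_normalizer hi⟩).toMonoidHom
  let J : K →* K := (K.normalizerMonoidHom ⟨j, hF.le_normalizer hj⟩).toMonoidHom
  have hI : ∀ k : K, (I k : X) = i * k * i⁻¹ := fun k => rfl
  have hJ : ∀ k : K, (J k : X) = j * k * j⁻¹ := fun k => rfl
  refine isSquare_card_of_quat (M := Additive K) hodd (MonoidHom.toAdditive I)
    (MonoidHom.toAdditive J) (fun v => ?_) (fun v => ?_) (fun v => ?_)
  · change I (I v.toMul) = (v.toMul)⁻¹
    ext
    rw [hI, hI, coe_inv, ← hinv _ v.toMul.2]; group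
  · change J (J v.toMul) = (v.toMul)⁻¹
    ext
    rw [hJ, hJ, coe_inv, ← hinv _ v.toMul.2, ← hij]; group
  · change I (J v.toMul) = (J (I v.toMul))⁻¹
    ext
    rw [coe_inv, ← hinv _ (J (I v.toMul)).2, hI, hJ, hJ, hI]
    have h1 : i * j = i * i * j * i := by
      calc i * j = i * i * (j * i * j⁻¹) * j := by rw [hc]; group
        _ = _ := by group
    calc i * (j * v.toMul * j⁻¹) * i⁻¹ = (i * j) * v.toMul * (i * j)⁻¹ := by group
      _ = _ := by rw [h1]; group

end Cfsg.Agent.Frob
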