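import Mathlib
import Cfsg.Agent.Lib.Frob.Complement
import Cfsg.Agent.Lib.Cls.NilpHall

/-!
Equal order pairs.
-/

set_option autoImplicit false

namespace Cfsg.Agent.Frob

open Subgroup

variable {G : Type*} [Group G] [Finite G] {N : Subgroup G}

theorem isPrimePow_card_of_isPGroup {p : ℕ} [hp : Fact p.Prime] {H : Type*} [Group H] [Finite H]
    [Nontrivial H] (h : IsPGroup p H) : IsPrimePow (Nat.card H) := by
  obtain ⟨k, hk, e⟩ := (IsPGroup.nontrivial_iff_card h).1 inferInstance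
  exact ⟨p, k, hp.out.prime, hk, by exact_mod_cast e.symm⟩

theorem exists_prime_dvd_ne_of_not_isPrimePow {n : ℕ} (h1 : n ≠ 1)
    (h : ¬ IsPrimePow n) (q : ℕ) : ∃ p, p.Prime ∧ p ∣ n ∧ p ≠ q := by
  by_contra hcon
  push Not at hcon
  obtain ⟨p, hp, hd⟩ := Nat.exists_prime_and_dvd h1
  refine h (isPrimePow_iff_unique_prime_dvd.2 ⟨p, ⟨hp, hd⟩, fun r hr => ?_⟩)
  rw [hcon r hr.1 hr.2, hcon p hp hd]

theorem eq_one_of_commute_of_eqOrder
    (heq : ∀ x : G, x ∉ N → ∀ n ∈ N, orderOf (x * n) = orderOf x) {x n : G} (hx : x ∉ N)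
    (hn : n ∈ N) (hc : Commute x n) (hcop : (orderOf x).Coprime (orderOf n)) : n = 1 := by
  have := heq x hx n hn
  rwa [hc.orderOf_mul_eq_mul_orderOf_of_coprime hcop, mul_eq_left₀ (orderOf_pos x).ne',
    orderOf_eq_one_iff] at this

theorem isPGroup_of_eqOrder {q : ℕ} [Fact q.Prime]
    (heq : ∀ x : G, x ∉ N → ∀ n ∈ N, orderOf (x * n) = orderOf x) (h : ¬ pCore q G ≤ N) :
    IsPGroup q N := by
  obtain ⟨x, hx, hxN⟩ := SetLike.not_le_iff_exists.1 h
  intro n
  obtain ⟨k, hk⟩ := Core.isPGroup_pCore q ⟨x, hx⟩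
  have h1 : (x * n) ^ q ^ k = 1 := by
    rw [← orderOf_dvd_iff_pow_eq_one, heq x hxN n n.2, orderOf_dvd_iff_pow_eq_one]
    exact congrArg Subtype.val hk
  have h2 : (n : G) ^ q ^ k ∈ pCore q G := by
    have h3 := congrArg (QuotientGroup.mk' (pCore q G)) h1
    rwa [map_pow, map_mul, map_one, QuotientGroup.mk'_apply, (QuotientGroup.eq_one_iff x).2 hx,
      one_mul, ← map_pow, QuotientGroup.mk'_apply, QuotientGroup.eq_one_iff] at h3
  obtain ⟨j, hj⟩ := Core.isPGroup_pCore q ⟨_, h2⟩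
  refine ⟨k + j, Subtype.ext ?_⟩
  rw [pow_add, pow_mul]
  exact congrArg (fun z : pCore q G => (z : G)) hj

/-- If no `q`-element outside the nilpotent normal subgroup `N` centralizes a nontrivial `p`-element
of `N`, the `q`-subgroups of `G / N` are Frobenius complements. -/
theorem isFC_quotient [N.Normal] (hnil : Group.IsNilpotent N) {p q : ℕ} [hp : Fact p.Prime]
    [hq : Fact q.Prime] (hpN : p ∣ Nat.card N)
    (h : ∀ x, x ∉ N → (∃ k, orderOf x = q ^ k) → ∀ n ∈ N, (∃ k, orderOf n = p ^ k) →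
      Commute x n → n = 1) {Q : Subgroup (G ⧸ N)} (hQ : IsPGroup q Q) : IsFC Q := by
  set Z := pCore p G ⊓ N ⊓ centralizer (N : Set G) with hZ
  have hZn : Z.Normal := inferInstance
  have hZ1 : Z ≠ ⊥ := by
    have h1 : pCore p G ⊓ N ≠ ⊥ := by
      obtain ⟨y, hy, ho⟩ := Core.exists_mem_orderOf_eq_of_dvd_card hpN
      have h2 := Core.le_pCore_of_le_nilpotent_normal hnil (P := zpowers y)
        (IsPGroup.of_card (n := 1) (by rw [Nat.card_zpowers, ho, pow_one])) (zpowers_le.2 hy)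
      intro e
      have : y = 1 := mem_bot.1 (e ▸ mem_inf.2 ⟨h2 (mem_zpowers y), hy⟩)
      rw [this, orderOf_one] at ho
      exact hp.out.one_lt.ne ho
    have h2 : (pCore p G ⊓ N).subgroupOf N ≠ ⊥ := by
      rw [Ne, subgroupOf_eq_bot, disjoint_iff, inf_assoc, inf_idem]; exact h1
    obtain ⟨⟨z, hz⟩, z1⟩ := ne_bot_iff_exists_ne_one.1
      (Core.inf_center_ne_bot_of_isNilpotent (N := (pCore p G ⊓ N).subgroupOf N) h2)
    intro e
    refine z1 (Subtype.ext (Subtype.ext (mem_bot.1 (e ▸ ?_))))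
    exact ⟨hz.1, fun y hy => congrArg Subtype.val (mem_center_iff.1 hz.2 ⟨y, hy⟩)⟩
  have := (nontrivial_iff_ne_bot Z).2 hZ1
  let φ : G ⧸ N →* MulAut Z := QuotientGroup.lift N MulAut.conjNormal fun x hx => by
    ext z
    have := z.2.2 x hx
    simp [this]
  refine isFC_of_action (φ.comp Q.subtype) fun a a1 z hz => ?_
  obtain ⟨x, hx⟩ := QuotientGroup.mk'_surjective N a
  obtain ⟨y, -, e, hy⟩ := Cls.exists_p_lift hq.out (QuotientGroup.mk' N) x
    (by rw [hx]; exact Core.exists_orderOf_eq_pow_of_mem hQ a.2)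
  rw [hx] at e
  have hyN : y ∉ N := fun hy => a1 (Subtype.ext (by
    rw [← e]; exact (QuotientGroup.eq_one_iff y).2 hy))
  refine Subtype.ext (h y hyN hy z z.2.1.2
    (Core.exists_orderOf_eq_pow_of_mem (Core.isPGroup_pCore p) z.2.1.1) ?_)
  change φ a z = z at hz
  rw [← e] at hz
  exact mul_inv_eq_iff_eq_mul.1 (congrArg Subtype.val hz)

end Cfsg.Agent.Frob
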