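import Mathlib
import Cfsg.Agent.Lib.Frob.Complement
import Cfsg.Agent.Lib.Coprime.Sylow
import Cfsg.Agent.Lib.Cls.Basic

/-!
A group acting coprimely and nontrivially such that all nonidentity elements have the same fixed
points is a Frobenius complement.
-/

set_option autoImplicit false

namespace Cfsg.Agent.Frob

open Subgroup

variable {X : Type*} [Group X] [Finite X]

theorem isFC_of_fixed_eq {R C A : Subgroup X} (hCR : ¬ R ≤ C) (hR : R ≤ normalizer (C : Set X))
    (hAR : A ≤ normalizer (R : Set X)) (hAC : C ≤ centralizer (A : Set X))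
    (hcop : (Nat.card C).Coprime (Nat.card A))
    (hf : ∀ h ∈ A, h ≠ 1 → ∀ r ∈ R, h * r = r * h → r ∈ C) : IsFC A := by
  have hA : A ≤ normalizer (C : Set X) := (le_centralizer_iff.1 hAC).trans (centralizer_le_normalizer _)
  set L := normalizer (C : Set X) with hL
  let π := QuotientGroup.mk' (C.subgroupOf L)
  have hπ : ∀ x : L, π x = 1 ↔ (x : X) ∈ C := fun x => QuotientGroup.eq_one_iff x
  have hAC1 : ∀ a ∈ A, a ∈ C → a = 1 := fun a ha hc =>
    mem_bot.1 (Core.inf_eq_bot_of_coprime_card hcop ▸ mem_inf.2 ⟨hc, ha⟩)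
  have h1 : IsFC ((A.subgroupOf L).map π) := by
    refine isFC_of_fpf (K := (R.subgroupOf L).map π) ?_ ?_ ?_
    · exact (map_mono ((comap_mono hAR).trans (le_normalizer_comap _))).trans
        (le_normalizer_map _)
    · intro e
      rw [Subgroup.map_eq_bot_iff] at e
      exact hCR fun r hr => (hπ ⟨r, hR hr⟩).1 (e (show (⟨r, hR hr⟩ : L) ∈ R.subgroupOf L from hr))
    · rintro _ ⟨a, ha, rfl⟩ a1 _ ⟨r, hr, rfl⟩ hc
      have h2 : (a : X) * r * (a : X)⁻¹ * (r : X)⁻¹ ∈ C := (hπ (a * r * a⁻¹ * r⁻¹)).1 (by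
        rw [map_mul, map_mul, map_mul, hc, map_inv, map_inv]; group)
      set c := (a : X) * r * (a : X)⁻¹ * (r : X)⁻¹ with hc'
      have hca : (a : X) * c = c * a := hAC h2 a ha
      have h3 : ∀ i : ℕ, (a : X) ^ i * r * ((a : X) ^ i)⁻¹ = c ^ i * r := fun i => by
        induction i with
        | zero => simp
        | succ i ih =>
          have h4 : (a : X) * c ^ i * (a : X)⁻¹ = c ^ i := by
            rw [← conj_pow, hca, mul_inv_cancel_right]
          calc (a : X) ^ (i + 1) * r * ((a : X) ^ (i + 1))⁻¹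
              = a * ((a : X) ^ i * r * ((a : X) ^ i)⁻¹) * (a : X)⁻¹ := by group
            _ = ((a : X) * c ^ i * (a : X)⁻¹) * ((a : X) * r * (a : X)⁻¹ * (r : X)⁻¹) * r := by
              rw [ih]; group
            _ = c ^ (i + 1) * r := by rw [h4, pow_succ]
      have h5 : c ^ Nat.card A = 1 := by
        have := h3 (Nat.card A)
        rw [show (a : X) ^ Nat.card A = 1 from
          congrArg Subtype.val (pow_card_eq_one' (x := (⟨a, ha⟩ : A)))] at this
        simpa using this.symm
      have h6 : c ^ Nat.card C = 1 := congrArg Subtype.val (pow_card_eq_one' (x := (⟨c, h2⟩ : C)))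
      have h7 := pow_gcd_eq_one.2 ⟨h6, h5⟩
      rw [hcop, pow_one, hc', mul_inv_eq_one, mul_inv_eq_iff_eq_mul] at h7
      exact (hπ r).2 (hf a ha (fun e => a1 (by rw [show a = 1 from Subtype.ext e, map_one])) r hr h7)
  refine h1.of_injective ((π.comp (inclusion hA)).codRestrict _ fun a => ⟨⟨a, hA a.2⟩, a.2, rfl⟩) ?_
  rw [injective_iff_map_eq_one]
  intro a ha
  exact Subtype.ext (hAC1 a a.2 ((hπ ⟨a, hA a.2⟩).1 (congrArg Subtype.val ha)))

theorem isFC_of_isNilpotent {Q A : Subgroup X} (hQ : Group.IsNilpotent Q)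
    (hAQ : A ≤ normalizer (Q : Set X)) (hcop : (Nat.card Q).Coprime (Nat.card A))
    (hne : ¬ Q ≤ centralizer (A : Set X))
    (hf : ∀ h ∈ A, h ≠ 1 → ∀ r ∈ Q, h * r = r * h → r ∈ centralizer (A : Set X)) : IsFC A := by
  have hlt : Q ⊓ centralizer (A : Set X) < Q :=
    lt_of_le_of_ne inf_le_left fun e => hne (inf_eq_left.1 e)
  have h1 := PGrp.lt_inf_normalizer_of_nilpotent hlt
  refine isFC_of_fixed_eq h1.not_ge inf_le_right (Core.le_normalizer_inf hAQ
    (Core.le_normalizer_normalizer (Core.le_normalizer_inf hAQ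
      (Core.le_normalizer_centralizer le_normalizer)))) inf_le_right
    (hcop.coprime_dvd_left (card_dvd_of_le inf_le_left)) fun h hh h1 r hr hc =>
      ⟨hr.1, hf h hh h1 r hr.1 hc⟩

omit [Finite X] in
theorem isSolvable_zpowers (x : X) : Group.IsSolvable (zpowers x) :=
  Group.isSolvable_of_comm fun a b => mul_comm' a b

omit [Finite X] in
theorem isSolvable_of_involutions {s t : X} (hs : s * s = 1) (ht : t * t = 1) :
    Group.IsSolvable ↥(zpowers t ⊔ zpowers (s * t)) := by
  refine Core.isSolvable_sup_of_le_normalizer (zpowers_le.2 ?_) (isSolvable_zpowers _)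
    (isSolvable_zpowers _)
  have h1 : t * (s * t) * t⁻¹ = (s * t)⁻¹ := by
    rw [mul_inv_rev, inv_eq_of_mul_eq_one_right hs, mul_assoc, mul_assoc, mul_inv_cancel,
      mul_one, inv_eq_of_mul_eq_one_right ht]
  have h2 : ∀ x ∈ zpowers (s * t), t * x * t⁻¹ ∈ zpowers (s * t) := by
    rintro _ ⟨k, rfl⟩
    rw [← conj_zpow, h1]
    exact zpow_mem (inv_mem (mem_zpowers _)) k
  rw [mem_normalizer_iff]
  refine fun x => ⟨h2 x, fun hx => ?_⟩
  have := h2 _ hx
  rwa [← mul_assoc, ← mul_assoc, ht, one_mul, mul_assoc, ← mul_inv_rev, ht, inv_one,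
    mul_one] at this

/-- If `H` acts coprimely and nontrivially on `N` and all nonidentity elements of `H` have the same
fixed points then `H` is a Frobenius complement. -/
theorem isFC_of_same_centralizer {N H : Subgroup X} (hn : H ≤ normalizer (N : Set X))
    (hcop : (Nat.card N).Coprime (Nat.card H)) (hne : ¬ N ≤ centralizer (H : Set X))
    (hf : ∀ h ∈ H, h ≠ 1 → ∀ r ∈ N, h * r = r * h → r ∈ centralizer (H : Set X)) : IsFC H := by
  have h1 : (centralizer (H : Set X)).relIndex N ≠ 1 := by rwa [Ne, relIndex_eq_one]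
  obtain ⟨q, hq, hqd⟩ := Nat.exists_prime_and_dvd h1
  have := Fact.mk hq
  have key : ∀ A ≤ H, ∀ Q, Coprime.IsSylowIn q Q N → A ≤ normalizer (Q : Set X) → IsFC A := by
    intro A hA Q hQ hAQ
    by_cases hA1 : A = ⊥
    · subst hA1; exact isFC_of_subsingleton
    obtain ⟨⟨a, ha⟩, a1⟩ := ne_bot_iff_exists_ne_one.1 hA1
    refine isFC_of_isNilpotent hQ.2.1.isNilpotent hAQ
      ((hcop.coprime_dvd_left (card_dvd_of_le hQ.1)).coprime_dvd_right (card_dvd_of_le hA))
      (fun e => hQ.2.2 (hqd.trans (relIndex_dvd_of_le_left _ fun r hr => ?_)))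
      fun h hh h1 r hr hc => centralizer_le hA (hf h (hA hh) h1 r (hQ.1 hr) hc)
    exact hf a (hA ha) (fun e => a1 (Subtype.ext e)) r (hQ.1 hr) (e hr a ha)
  have hsol : ∀ A ≤ H, Group.IsSolvable A → IsFC A := fun A hA hs => by
    obtain ⟨Q, hQ, hAQ⟩ := Coprime.exists_invariant_sylow q (hA.trans hn)
      (hcop.coprime_dvd_right (card_dvd_of_le hA)).symm (Or.inl hs)
    exact key A hA Q hQ hAQ
  by_cases h2 : 2 ∣ Nat.card H
  · obtain ⟨z, hzH, hz⟩ := Core.exists_mem_orderOf_eq_of_dvd_card h2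
    have hinv : ∀ {s : X}, orderOf s = 2 → s * s = 1 := fun hs => by
      rw [← sq, ← hs, pow_orderOf_eq_one]
    have huniq : ∀ s ∈ H, orderOf s = 2 → s = z := fun s hsH hs => by
      have h3 := hsol _ (sup_le (zpowers_le.2 hzH) (zpowers_le.2 (H.mul_mem hsH hzH)))
        (isSolvable_of_involutions (hinv hs) (hinv hz))
      have hz' : z ∈ zpowers z ⊔ zpowers (s * z) := mem_sup_left (mem_zpowers z)
      have hs' : s ∈ zpowers z ⊔ zpowers (s * z) := by
        simpa using mul_mem (mem_sup_right (S := zpowers z) (mem_zpowers (s * z))) (inv_mem hz')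
      exact congrArg Subtype.val (h3.eq_of_orderOf_eq_two (s := ⟨s, hs'⟩) (t := ⟨z, hz'⟩)
        (by rwa [orderOf_mk]) (by rwa [orderOf_mk]))
    have hcop' := (hcop.coprime_dvd_right (card_dvd_of_le (zpowers_le.2 hzH))).symm
    obtain ⟨Q, hQ, hAQ⟩ := Coprime.exists_invariant_sylow q ((zpowers_le.2 hzH).trans hn)
      hcop' (Or.inl (isSolvable_zpowers _))
    refine key H le_rfl Q hQ fun h hh => ?_
    have hc : h ∈ centralizer ((zpowers z : Subgroup X) : Set X) := by
      rw [Cls.centralizer_zpowers, mem_centralizer_singleton_iff, ← mul_inv_eq_iff_eq_mul]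
      exact huniq _ (H.mul_mem (H.mul_mem hh hzH) (H.inv_mem hh))
        (by simpa [hz] using (MulAut.conj h).orderOf_eq z)
    obtain ⟨c, ⟨hcN, hcz⟩, e⟩ := Coprime.invariant_sylow_conj ((zpowers_le.2 hzH).trans hn) hcop'
      (Or.inl (isSolvable_zpowers _)) hQ (hQ.map_conj_of_mem_normalizer (hn hh)) hAQ
      (Coprime.le_normalizer_map_conj_of_mem_centralizer hAQ hc)
    have hcH : c ∈ centralizer (H : Set X) :=
      hf z hzH (by rintro rfl; simp at hz) c hcN (hcz z (mem_zpowers z))
    have h4 : c⁻¹ * h ∈ normalizer (Q : Set X) := by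
      rw [mem_normalizer_iff_map_conj_eq]
      have := congrArg (Subgroup.map (MulAut.conj c⁻¹).toMonoidHom) e
      rwa [Coprime.map_conj_map_conj, Coprime.map_conj_map_conj, inv_mul_cancel,
        Coprime.map_conj_one] at this
    refine zpowers_le.2 h4 (Cls.mem_zpowers_mul_right (Commute.inv_left (hcH h hh).symm) ?_)
    rw [orderOf_inv]
    exact (hcop.coprime_dvd_left (N.orderOf_dvd_natCard hcN)).coprime_dvd_right
      (H.orderOf_dvd_natCard hh)
  · have : IsZGroup H := ⟨fun p hp P => by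
      have := Fact.mk hp
      have h3 := hsol _ (map_subtype_le (P : Subgroup H))
        (Coprime.isSolvable_of_isPGroup (P.2.map _))
      have h4 : IsFC (P : Subgroup H) :=
        h3.of_mulEquiv (equivMapOfInjective _ _ H.subtype_injective)
      by_cases hp2 : p = 2
      · subst hp2
        have : Nat.card (P : Subgroup H) = 1 := by
          rw [P.card_eq_multiplicity, Nat.factorization_eq_zero_of_not_dvd h2, pow_zero]
        have := (Nat.card_eq_one_iff_unique.1 this).1
        infer_instance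
      · exact PGrp.isCyclic_of_rank_le_one_of_odd P.2 hp2 (h4.pRankLE p)⟩
    exact hsol H le_rfl inferInstance

end Cfsg.Agent.Frob
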