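import Mathlib
import Cfsg.Agent.Lib.Frob.EqOrder

/-!
Tools for 2-Frobenius groups and prime graphs.
-/

set_option autoImplicit false

namespace Cfsg.Agent.Frob

open Subgroup

variable {G : Type*} [Group G] [Finite G]

theorem IsFC.isZGroup_of_odd (h : IsFC G) (ho : ¬ 2 ∣ Nat.card G) : IsZGroup G :=
  ⟨fun p hp P => by
    have := Fact.mk hp
    by_cases hp2 : p = 2
    · subst hp2
      have : Nat.card (P : Subgroup G) = 1 := by
        rw [P.card_eq_multiplicity, Nat.factorization_eq_zero_of_not_dvd ho, pow_zero]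
      have := (Nat.card_eq_one_iff_unique.1 this).1
      infer_instance
    · exact h.isCyclic_of_odd hp2 P.2⟩

theorem IsFC.isCyclic_of_comm (h : IsFC G) (hc : IsMulCommutative G) : IsCyclic G := by
  have : IsZGroup G := ⟨fun p hp P => by
    have := Fact.mk hp
    exact PGrp.isCyclic_of_comm_of_rank_le_one P.2 inferInstance ((h.subgroup P).pRankLE p)⟩
  have : Group.IsNilpotent G := Core.isNilpotent_of_isMulCommutative
  infer_instance

/-- A Frobenius kernel which is also a Frobenius complement is cyclic of odd order. -/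
theorem IsFrobPair.odd_and_isCyclic {K A : Subgroup G} (hF : IsFrobPair K A) (h : IsFC K) :
    ¬ 2 ∣ Nat.card K ∧ IsCyclic K := by
  have ho : ¬ 2 ∣ Nat.card K := fun h2 => by
    obtain ⟨z, hz⟩ := exists_prime_orderOf_dvd_card' 2 h2
    obtain ⟨⟨a, ha⟩, a1⟩ := ne_bot_iff_exists_ne_one.1 hF.right_ne_bot
    have h1 := h.eq_of_orderOf_eq_two (s := ⟨a * z * a⁻¹, conj_mem_of_mem_normalizer
      (hF.le_normalizer ha) z.2⟩) (by
        rw [orderOf_mk, ← hz, ← orderOf_coe z]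
        simpa using (MulAut.conj a).orderOf_eq (z : G)) hz
    have h2 := hF.fpf a ha (fun e => a1 (Subtype.ext e)) z z.2
      (mul_inv_eq_iff_eq_mul.1 (congrArg Subtype.val h1))
    rw [show z = 1 from Subtype.ext h2, orderOf_one] at hz
    exact absurd hz (by decide)
  have := h.isZGroup_of_odd ho
  have := Transfer.isNilpotent_of_isFrobPair hF
  exact ⟨ho, inferInstance⟩

omit [Finite G] in
theorem commutator_mem_centralizer_of_isCyclic {K : Subgroup G} [hK : IsCyclic K] {x y : G}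
    (hx : x ∈ normalizer (K : Set G)) (hy : y ∈ normalizer (K : Set G)) :
    x * y * x⁻¹ * y⁻¹ ∈ centralizer (K : Set G) := by
  have hc : ∀ a b : MulAut K, a * b = b * a := fun a b => (hK.mulAutMulEquiv K).injective (by
    rw [map_mul, map_mul, mul_comm])
  have h1 : (⟨x, hx⟩ * ⟨y, hy⟩ * ⟨x, hx⟩⁻¹ * ⟨y, hy⟩⁻¹ : normalizer (K : Set G)) ∈
      K.normalizerMonoidHom.ker := by
    rw [MonoidHom.mem_ker, map_mul, map_mul, map_mul, hc (K.normalizerMonoidHom ⟨x, hx⟩), map_inv,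
      map_inv]
    group
  rw [normalizerMonoidHom_ker] at h1
  exact h1

/-- A complement acting on a cyclic kernel is cyclic. -/
theorem IsFrobPair.isCyclic_right {K A : Subgroup G} (hF : IsFrobPair K A) (hK : IsCyclic K) :
    IsCyclic A := by
  refine hF.isFC.isCyclic_of_comm ⟨⟨fun a b => Subtype.ext ?_⟩⟩
  have h1 := commutator_mem_centralizer_of_isCyclic (hF.le_normalizer a.2) (hF.le_normalizer b.2)
  obtain ⟨⟨k, hk⟩, k1⟩ := ne_bot_iff_exists_ne_one.1 hF.left_ne_bot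
  by_contra hne
  refine k1 (Subtype.ext (hF.fpf _ (A.mul_mem (A.mul_mem (A.mul_mem a.2 b.2) (A.inv_mem a.2))
    (A.inv_mem b.2)) (fun e => hne ?_) k hk (h1 k hk).symm))
  rwa [mul_inv_eq_one, mul_inv_eq_iff_eq_mul] at e

theorem exists_orderOf_eq_of_dvd {x : G} {n : ℕ} (h : n ∣ orderOf x) :
    ∃ y ∈ zpowers x, orderOf y = n :=
  ⟨_, pow_mem (mem_zpowers x) _, orderOf_pow_orderOf_div (orderOf_pos x).ne' h⟩

theorem exists_orderOf_eq_mul_of_commute {x y : G} (hc : Commute x y) {p q : ℕ}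
    (hpq : p.Coprime q) (hx : p ∣ orderOf x) (hy : q ∣ orderOf y) : ∃ g : G, orderOf g = p * q := by
  obtain ⟨_, ⟨i, rfl⟩, hi⟩ := exists_orderOf_eq_of_dvd hx
  obtain ⟨_, ⟨j, rfl⟩, hj⟩ := exists_orderOf_eq_of_dvd hy
  refine ⟨x ^ i * y ^ j, ?_⟩
  dsimp only at hi hj
  rw [(hc.zpow_zpow i j).orderOf_mul_eq_mul_orderOf_of_coprime (by rwa [hi, hj]), hi, hj]

theorem exists_orderOf_eq_of_surjective {G' : Type*} [Group G'] {f : G →* G'}
    (hf : Function.Surjective f) {n : ℕ} (h : ∃ g : G', orderOf g = n) :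
    ∃ g : G, orderOf g = n := by
  obtain ⟨g, rfl⟩ := h
  obtain ⟨x, rfl⟩ := hf g
  obtain ⟨y, -, hy⟩ := exists_orderOf_eq_of_dvd (orderOf_map_dvd f x)
  exact ⟨y, hy⟩

theorem exists_orderOf_eq_of_isCyclic [IsCyclic G] {n : ℕ} (h : n ∣ Nat.card G) :
    ∃ g : G, orderOf g = n := by
  obtain ⟨g, hg⟩ := IsCyclic.exists_ofOrder_eq_natCard (α := G)
  obtain ⟨y, -, hy⟩ := exists_orderOf_eq_of_dvd (hg ▸ h)
  exact ⟨y, hy⟩

theorem exists_orderOf_eq_mul_of_isNilpotent [Group.IsNilpotent G] {p q : ℕ} (hp : p.Prime)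
    (hq : q.Prime) (hpq : p ≠ q) (h1 : p ∣ Nat.card G) (h2 : q ∣ Nat.card G) :
    ∃ g : G, orderOf g = p * q := by
  have := Fact.mk hp
  have := Fact.mk hq
  obtain ⟨x, hx⟩ := exists_prime_orderOf_dvd_card' p h1
  obtain ⟨y, hy⟩ := exists_prime_orderOf_dvd_card' q h2
  have hc := (Nat.coprime_primes hp hq).2 hpq
  exact exists_orderOf_eq_mul_of_commute
    (Cls.commute_of_coprime_of_isNilpotent (by rwa [hx, hy])) hc hx.symm.dvd hy.symm.dvd

/-- No edges between the primes of `N` and the primes of `G / N` give a Frobenius group. -/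
theorem centralizer_le_of_noEdge {N : Subgroup G} [N.Normal]
    (h : ∀ p q : ℕ, p.Prime → q.Prime → p ∣ Nat.card N → q ∣ N.index →
      p ≠ q ∧ ¬ ∃ g : G, orderOf g = p * q) {x : G} (hx : x ∈ N) (x1 : x ≠ 1) :
    centralizer ({x} : Set G) ≤ N := fun c hc => by
  by_contra hcN
  obtain ⟨p, hp, hpx⟩ := Nat.exists_prime_and_dvd (mt orderOf_eq_one_iff.1 x1)
  have h1 : (c : G ⧸ N) ≠ 1 := mt (QuotientGroup.eq_one_iff c).1 hcN
  obtain ⟨q, hq, hqc⟩ := Nat.exists_prime_and_dvd (mt orderOf_eq_one_iff.1 h1)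
  obtain ⟨h2, h3⟩ := h p q hp hq (hpx.trans (N.orderOf_dvd_natCard hx))
    (hqc.trans (orderOf_dvd_natCard _))
  exact h3 (exists_orderOf_eq_mul_of_commute (mem_centralizer_singleton_iff.1 hc).symm
    ((Nat.coprime_primes hp hq).2 h2) hpx
    (hqc.trans (orderOf_map_dvd (QuotientGroup.mk' N) c)))

theorem isFC_quotient_of_lift {N : Subgroup G} [N.Normal] (hnil : Group.IsNilpotent N) {p : ℕ}
    [hp : Fact p.Prime] (hpN : p ∣ Nat.card N) {Q : Subgroup (G ⧸ N)}
    (h : ∀ a ∈ Q, a ≠ 1 → ∃ x : G, (x : G ⧸ N) = a ∧ ∀ n ∈ N, (∃ k, orderOf n = p ^ k) →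
      Commute x n → n = 1) : IsFC Q := by
  set Z := pCore p G ⊓ N ⊓ centralizer (N : Set G) with hZ
  have hZn : Z.Normal := inferInstance
  have hZ1 : Z ≠ ⊥ := by
    have h1 : pCore p G ⊓ N ≠ ⊥ := by
      obtain ⟨y, hy, ho⟩ := Core.exists_mem_orderOf_eq_of_dvd_card hpN
      have h2 := Core.le_pCore_of_le_nilpotent_normal hnil (P := zpowers y)
        (IsPGroup.of_card (n := 1) (by rw [Nat.card_zpowers, ho, pow_one])) (zpowers_le.2 hy)
      intro e
      have : y = 1 := mem_bot.1 (e ▸ mem_inf.2 ⟨h2 (mem_zpowers y), hy⟩)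
      rw [this, orderOf_one] at ho
      exact hp.out.one_lt.ne ho
    have h2 : (pCore p G ⊓ N).subgroupOf N ≠ ⊥ := by
      rw [Ne, subgroupOf_eq_bot, disjoint_iff, inf_assoc, inf_idem]; exact h1
    obtain ⟨⟨z, hz⟩, z1⟩ := ne_bot_iff_exists_ne_one.1
      (Core.inf_center_ne_bot_of_isNilpotent (N := (pCore p G ⊓ N).subgroupOf N) h2)
    intro e
    refine z1 (Subtype.ext (Subtype.ext (mem_bot.1 (e ▸ ?_))))
    exact ⟨hz.1, fun y hy => congrArg Subtype.val (mem_center_iff.1 hz.2 ⟨y, hy⟩)⟩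
  have := (nontrivial_iff_ne_bot Z).2 hZ1
  let φ : G ⧸ N →* MulAut Z := QuotientGroup.lift N MulAut.conjNormal fun x hx => by
    ext z
    have := z.2.2 x hx
    simp [this]
  refine isFC_of_action (φ.comp Q.subtype) fun a a1 z hz => ?_
  obtain ⟨y, e, hy⟩ := h a a.2 fun e => a1 (Subtype.ext e)
  refine Subtype.ext (hy z z.2.1.2
    (Core.exists_orderOf_eq_pow_of_mem (Core.isPGroup_pCore p) z.2.1.1) ?_)
  change φ a z = z at hz
  rw [← e] at hz
  exact mul_inv_eq_iff_eq_mul.1 (congrArg Subtype.val hz)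

omit [Finite G] in
/-- The complement is isomorphic to the quotient by the kernel. -/
theorem IsFrobPair.nonempty_mulEquiv_quotient {K A : Subgroup G} [K.Normal] (hF : IsFrobPair K A)
    (h : K ⊔ A = ⊤) : Nonempty (G ⧸ K ≃* A) :=
  ⟨(hF.isComplement' h).symm.QuotientMulEquiv⟩

end Cfsg.Agent.Frob
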